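import Cfsg.Agent.Fusion92.SectionFree
import Cfsg.Agent.Fusion92.FactorFree
import Cfsg.Agent.Fusion91.Factor
import Cfsg.Agent.Fusion91.Image
import Cfsg.Agent.Lib.Fusion.ComponentExists
import Cfsg.Agent.Lib.Fusion.NormalCore
import Cfsg.Agent.Lib.Thompson.Cores
import Cfsg.Agent.S5134
import Cfsg.Agent.S5241

/-!
# `Qd(p)`-free saturated fusion systems are constrained and solvable

Both facts follow from the existence of a nontrivial normal subgroup in every nontrivial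
`Qd(p)`-free saturated system (hypothesis `CoreHyp`).
-/

set_option autoImplicit false
set_option linter.style.haveILetI false

namespace Cfsg.Agent.QdSolv76

open Cfsg Cfsg.Agent.Fusion
open Cfsg.FusionSystem (normalizerIn centralizerIn preimageAlong InducedAlong)

universe u

/-- Every nontrivial `Qd(p)`-free saturated system has a nontrivial normal subgroup. -/
def CoreHyp (p : ℕ) [Fact p.Prime] : Prop :=
  ∀ (Ω : Type u) [Group Ω] (S : Subgroup Ω) [Finite S], IsPGroup p S → S ≠ ⊥ →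
    ∀ F : Cfsg.FusionSystem S, F.IsSaturated p → F.IsSectionFree p ↥(Cfsg.qd p) → F.core ≠ ⊥

variable {Ω : Type u} [Group Ω] {S : Subgroup Ω} [Finite S] {p : ℕ} [Fact p.Prime]
  {F : Cfsg.FusionSystem S}

/-- The quotient by a normal subgroup `Q` has a nontrivial normal subgroup; if all maps act on `Q`
as elements of `S` its preimage is normal. -/
theorem exists_normal_not_le (hH : CoreHyp.{u} p) (hS : IsPGroup p S) (hF : F.IsSaturated p)
    (hfree : F.IsSectionFree p ↥(Cfsg.qd p)) {Q : Subgroup Ω} (hQ : F.IsNormal Q) (hQS : Q ≠ S)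
    (hin : ∀ P f, IsMap F P f → ∀ x ∈ P, x ∈ Q → ∃ t ∈ S, f x = t * x * t⁻¹) :
    ∃ R, F.IsNormal R ∧ ¬ R ≤ Q := by
  haveI : (Q.subgroupOf S).Normal :=
    (Subgroup.normal_subgroupOf_iff_le_normalizer hQ.1).2 (Fusion92.isNormal_normalizer hQ)
  have hcl := Fusion.stronglyClosed_of_normal hQ
  obtain ⟨E, hE⟩ := Fusion91.exists_factor_mk' F hcl
  set θ := QuotientGroup.mk' (Q.subgroupOf S) with hθ
  have hsurj := S5134.result p hS F hF Q hcl θ E hE
  have hEsat : E.IsSaturated p := Fusion91.isSaturated_image hS hF hsurj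
  have hEfree := S5241.result p hS F hF Q hQ hfree θ E hE
  haveI : Finite (S ⧸ Q.subgroupOf S) := Finite.of_surjective θ (QuotientGroup.mk'_surjective _)
  have hp' : IsPGroup p (⊤ : Subgroup (S ⧸ Q.subgroupOf S)) :=
    (hS.of_surjective θ (QuotientGroup.mk'_surjective _)).to_subgroup _
  have htop : (⊤ : Subgroup (S ⧸ Q.subgroupOf S)) ≠ ⊥ := by
    intro h
    refine hQS (le_antisymm hQ.1 fun x hx => ?_)
    have h1 : θ ⟨x, hx⟩ ∈ (⊤ : Subgroup (S ⧸ Q.subgroupOf S)) := Subgroup.mem_top _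
    rw [h, Subgroup.mem_bot] at h1
    exact (hE.2.1 _).1 h1
  have hM := Fusion91.isNormal_core E
  have hMne := hH _ _ hp' htop E hEsat hEfree
  refine ⟨preimageAlong θ E.core, ?_, fun hle => hMne ?_⟩
  swap
  · rw [Subgroup.eq_bot_iff_forall]
    intro y hy
    obtain ⟨x, rfl⟩ := QuotientGroup.mk'_surjective _ y
    exact (hE.2.1 _).2 (hle (Fusion91.mem_preimageAlong.2 ⟨x.2, hy⟩))
  set R := preimageAlong θ E.core with hR
  have hRS : R ≤ S := Fusion91.preimageAlong_le θ _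
  obtain ⟨b, hb⟩ := exists_zSer_top (S := S) hS le_rfl
  obtain ⟨a, ha⟩ := exists_zSer_top (S := (⊤ : Subgroup (S ⧸ Q.subgroupOf S))) hp' hM.1
  let D : ℕ → Subgroup Ω := fun i =>
    if i ≤ b then Q ⊓ zSer S i else preimageAlong θ (zSer E.core (i - b))
  have hpre0 : preimageAlong θ (zSer E.core 0) = Q := by
    ext x
    rw [zSer_zero, Fusion91.mem_preimageAlong]
    exact ⟨fun ⟨h, h'⟩ => (hE.2.1 _).1 h', fun h => ⟨hQ.1 h, (hE.2.1 ⟨x, hQ.1 h⟩).2 h⟩⟩
  have hDb : ∀ i, b ≤ i → D i = preimageAlong θ (zSer E.core (i - b)) := fun i hi => by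
    by_cases h : i ≤ b
    · obtain rfl : i = b := le_antisymm h hi
      simp only [D, if_pos le_rfl, Nat.sub_self, hpre0, hb, inf_eq_left.2 hQ.1]
    · simp only [D, if_neg h]
  refine isNormal_of_series hS hF D (b + a) ?_ ?_ (fun i _ => ?_) fun i _ => ?_
  · simp only [D, if_pos (Nat.zero_le b), zSer_zero, inf_bot_eq]
  · rw [hDb _ (Nat.le_add_right _ _), Nat.add_sub_cancel_left, ha]
  · by_cases h : i ≤ b
    · simp only [D, if_pos h]
      refine stronglyClosed_iff.2 ⟨inf_le_left.trans hQ.1, fun P f hf x hx hxD => ?_⟩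
      obtain ⟨t, ht, he⟩ := hin P f hf x hx hxD.1
      refine ⟨Fusion92.isNormal_closed' hQ hf hx hxD.1, ?_⟩
      rw [he]
      obtain ⟨y, hy, rfl⟩ := hxD.2
      exact ⟨⟨t, ht⟩ * y * (⟨t, ht⟩ : S)⁻¹,
        (inferInstance : (Subgroup.upperCentralSeries S i).Normal).conj_mem y hy _, rfl⟩
    · rw [hDb i (by omega)]
      have hj := Fusion.stronglyClosed_of_normal
        (Fusion.isNormal_char hM (zSer_le _ (i - b)) (zSer_subgroupOf_char _ (i - b)))
      refine stronglyClosed_iff.2 ⟨Fusion91.preimageAlong_le θ _, fun P f hf x hx hxD => ?_⟩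
      obtain ⟨g, hg, hge⟩ := Fusion91.exists_push_map hsurj hf
      rw [Fusion91.mem_preimage_push] at hxD ⊢
      refine ⟨hf.apply_mem hx, ?_⟩
      rw [← hge x hx]
      exact (stronglyClosed_iff.1 hj).2 _ _ hg _
        ((Fusion91.mem_imageAlong_push hf.dom_le).2 ⟨x, hx, rfl⟩) hxD.2
  · by_cases h : i + 1 ≤ b
    · simp only [D, if_pos h, if_pos (by omega : i ≤ b)]
      refine Subgroup.commutator_le.2 fun g hg x hx => ⟨?_, ?_⟩
      · rw [commutatorElement_def]
        exact Q.mul_mem (conj_mem_of_mem_normalizer (Fusion92.isNormal_normalizer hQ (hRS hg)) hx.1)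
          (Q.inv_mem hx.1)
      · exact zSer_commutator S i (Subgroup.commutator_mem_commutator (hRS hg) hx.2)
    · rw [hDb i (by omega), hDb (i + 1) (by omega), show i + 1 - b = i - b + 1 by omega]
      refine Subgroup.commutator_le.2 fun g hg x hx => ?_
      obtain ⟨hgS, hg'⟩ := Fusion91.mem_preimageAlong.1 hg
      obtain ⟨hxS, hx'⟩ := Fusion91.mem_preimageAlong.1 hx
      let gs : S := ⟨g, hgS⟩
      let xs : S := ⟨x, hxS⟩
      refine Fusion91.mem_preimageAlong.2 ⟨(gs * xs * gs⁻¹ * xs⁻¹).2, ?_⟩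
      show θ (gs * xs * gs⁻¹ * xs⁻¹) ∈ _
      rw [map_mul, map_mul, map_mul, map_inv, map_inv, ← commutatorElement_def]
      exact zSer_commutator _ _ (Subgroup.commutator_mem_commutator hg' hx')

/-- The normal centric subgroup of a constrained subsystem contains all elements stabilizing
`1 ≤ Q ≤ M`. -/
theorem mem_core_of_stabilizes (hS : IsPGroup p S) (hF : F.IsConstrained p) {Q : Subgroup Ω}
    (hQ : F.IsNormal Q) {t : Ω} (ht : t ∈ S) (hfix : ∀ x ∈ Q, t * x * t⁻¹ = x)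
    (hmod : ∀ x ∈ F.core, x⁻¹ * (t * x * t⁻¹) ∈ Q) : t ∈ F.core := by
  have hgrp : ∀ {A : Subgroup Ω}, A ≤ S → Finite A := fun h => finite_of_le h
  obtain ⟨L, hG, ι, hfin, ⟨hinj, hreal⟩, ⟨T, hT⟩, hcore⟩ := exists_model hS hF
  set O := Cfsg.pCore p L with hO
  have hOp : IsPGroup p O := Cfsg.Agent.Thompson.isPGroup_pCore
  have hOle : O ≤ ι.range := by
    rw [← hT]
    exact IsPGroup.le_sylow_of_normal hOp T
  -- the preimage of the core of the model is normal
  have hgmap : ∀ (g : L) (P : Subgroup Ω) (hP : P ≤ S) (φ : P →* Ω) (hφ : ∀ x : P, φ x ∈ S),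
      (∀ x : P, ι ⟨φ x, hφ x⟩ = g * ι ⟨x, hP x.2⟩ * g⁻¹) → φ ∈ F.Hom P :=
    fun g P hP φ hφ h => (hreal P hP φ hφ).2 ⟨g, h⟩
  set O' := (O.comap ι).map S.subtype with hO'
  have hO'S : O' ≤ S := Subgroup.map_subtype_le _
  have hmemO : ∀ (x : Ω) (hx : x ∈ S), x ∈ O' ↔ ι ⟨x, hx⟩ ∈ O := fun x hx =>
    ⟨by rintro ⟨y, hy, rfl⟩; exact hy, fun h => ⟨⟨x, hx⟩, h, rfl⟩⟩
  have hO'n : F.IsNormal O' := by
    refine Fusion.isNormal_iff.2 ⟨hO'S, fun P f hf => ?_⟩
    have hP := hf.dom_le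
    obtain ⟨φ, hφ, hφf⟩ := id hf
    have hφS : ∀ x : P, φ x ∈ S := (F.le_of_mem hφ).2
    obtain ⟨g, hg⟩ := (hreal P hP φ hφS).1 hφ
    have hPO : P ⊔ O' ≤ S := sup_le hP hO'S
    have hrange : ∀ x : S, (x : Ω) ∈ P ⊔ O' → g * ι x * g⁻¹ ∈ ι.range := by
      intro x hx
      let K := ((ι.range.comap (MulAut.conj g).toMonoidHom).comap ι).map S.subtype
      have h1 : P ⊔ O' ≤ K := by
        refine sup_le (fun y hy => ⟨⟨y, hP hy⟩, ⟨⟨φ ⟨y, hy⟩, hφS _⟩, hg ⟨y, hy⟩⟩, rfl⟩) ?_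
        rintro _ ⟨y, hy, rfl⟩
        exact ⟨y, hOle (Cfsg.Agent.Thompson.instPCoreNormal.conj_mem _ hy g), rfl⟩
      obtain ⟨y, hy, he⟩ := h1 hx
      obtain rfl : y = x := Subtype.ext he
      exact hy
    let ψ : ↥(P ⊔ O') →* Ω := S.subtype.comp ((MonoidHom.ofInjective hinj).symm.toMonoidHom.comp
      ((((MulAut.conj g).toMonoidHom.comp ι).comp (Subgroup.inclusion hPO)).codRestrict ι.range
        fun x => hrange _ x.2))
    have hψ : ∀ x : ↥(P ⊔ O'), ∀ h : ψ x ∈ S, ι ⟨ψ x, h⟩ = g * ι ⟨x, hPO x.2⟩ * g⁻¹ := fun x h =>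
      congrArg Subtype.val ((MonoidHom.ofInjective hinj).apply_symm_apply _)
    have hψS : ∀ x : ↥(P ⊔ O'), ψ x ∈ S := fun x => Subtype.mem _
    have hψm := hgmap g _ hPO ψ hψS fun x => hψ x _
    refine ⟨extFun ψ, isMap_extFun hψm, fun x hx => ?_, ?_⟩
    · rw [extFun_of_mem ψ (Subgroup.mem_sup_left hx), ← hφf ⟨x, hx⟩]
      exact congrArg Subtype.val (hinj ((hψ _ (hψS _)).trans (hg ⟨x, hx⟩).symm) :
        (⟨_, hψS _⟩ : S) = ⟨_, hφS ⟨x, hx⟩⟩)
    · haveI := finite_of_le hO'S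
      have hm : ∀ x ∈ O', extFun ψ x ∈ O' := fun x hx => by
        rw [extFun_of_mem ψ (Subgroup.mem_sup_right hx), hmemO _ (hψS _), hψ]
        exact Cfsg.Agent.Thompson.instPCoreNormal.conj_mem _ ((hmemO x (hO'S hx)).1 hx) g
      refine Set.Subset.antisymm (fun _ ⟨x, hx, he⟩ => he ▸ hm x hx) ?_
      exact surjOn_of_card_le hO'S ((isMap_extFun hψm).injOn.mono fun x hx => Subgroup.mem_sup_right hx)
        hm le_rfl
  have hO'c : O' ≤ F.core := Fusion91.le_core hO'n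
  -- `Q` inside the model
  set Qh := (Q.subgroupOf S).map ι with hQh
  have hQn : Qh.Normal := by
    refine ⟨fun y hy g => ?_⟩
    obtain ⟨x, hx, rfl⟩ := hy
    have hgO : ∀ z : ↥O', g * ι ⟨z, hO'S z.2⟩ * g⁻¹ ∈ O := fun z =>
      Cfsg.Agent.Thompson.instPCoreNormal.conj_mem _ ((hmemO z (hO'S z.2)).1 z.2) g
    let φ : ↥O' →* Ω := S.subtype.comp ((MonoidHom.ofInjective hinj).symm.toMonoidHom.comp
      ((((MulAut.conj g).toMonoidHom.comp ι).comp (Subgroup.inclusion hO'S)).codRestrict ι.range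
        fun z => hOle (hgO z)))
    have hφι : ∀ (z : ↥O') (h : φ z ∈ S), ι ⟨φ z, h⟩ = g * ι ⟨z, hO'S z.2⟩ * g⁻¹ := fun z h =>
      congrArg Subtype.val ((MonoidHom.ofInjective hinj).apply_symm_apply _)
    have hφS : ∀ z, φ z ∈ S := fun z => Subtype.mem _
    obtain ⟨f', hf', he, him⟩ := Fusion.normal_extendsStab hQ
      (isMap_extFun (hgmap g _ hO'S φ hφS fun z => hφι z _))
    obtain ⟨ψ, hψ, hψf⟩ := id hf'
    obtain ⟨g', hg'⟩ := (hreal _ hf'.dom_le ψ (F.le_of_mem hψ).2).1 hψ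
    have hg'O : g'⁻¹ * g ∈ O := hcore (Subgroup.mem_centralizer_iff.2 fun o ho => by
      obtain ⟨w, rfl⟩ := hOle ho
      have hw : (w : Ω) ∈ O' := ⟨w, ho, rfl⟩
      have h1 := hg' ⟨w, Subgroup.mem_sup_left hw⟩
      have h2 := hφι ⟨w, hw⟩ (hφS _)
      have h3 : (⟨ψ ⟨w, Subgroup.mem_sup_left hw⟩, (F.le_of_mem hψ).2 _⟩ : S) = ⟨φ ⟨w, hw⟩, hφS _⟩ :=
        Subtype.ext (by
          show ψ _ = φ _
          rw [hψf, he hw, extFun_of_mem φ hw])
      rw [h3, h2] at h1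
      calc ι w * (g'⁻¹ * g) = g'⁻¹ * (g' * ι w * g'⁻¹) * g := by group
        _ = g'⁻¹ * (g * ι w * g⁻¹) * g := by rw [← h1]
        _ = g'⁻¹ * g * ι w := by group)
    obtain ⟨o, ho⟩ := hOle hg'O
    have hxQ : (x : Ω) ∈ Q := hx
    have hy : (o : Ω) * x * (o : Ω)⁻¹ ∈ Q :=
      conj_mem_of_mem_normalizer (Fusion92.isNormal_normalizer hQ o.2) hxQ
    refine ⟨⟨ψ ⟨_, Subgroup.mem_sup_right hy⟩, (F.le_of_mem hψ).2 _⟩, ?_, ?_⟩
    · show ψ ⟨_, Subgroup.mem_sup_right hy⟩ ∈ Q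
      rw [hψf, ← SetLike.mem_coe, ← him]
      exact ⟨_, hy, rfl⟩
    · rw [hg' ⟨_, Subgroup.mem_sup_right hy⟩,
        show (⟨(o : Ω) * x * (o : Ω)⁻¹, hf'.dom_le (Subgroup.mem_sup_right hy)⟩ : S) = o * x * o⁻¹
          from rfl, map_mul, map_mul, map_inv, ho]
      group
  let c : L →* MulAut O := MulAut.conjNormal
  let K : Subgroup L := (NormalLift.fixMod O Qh).comap c
  have hKn : K.Normal := ⟨fun k hk g => by
    show c (g * k * g⁻¹) ∈ NormalLift.fixMod O Qh
    rw [map_mul, map_mul, map_inv]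
    refine NormalLift.fixMod_conj hk fun x => ⟨fun hx => ?_, fun hx => hQn.conj_mem _ hx g⟩
    have h := hQn.conj_mem _ hx g⁻¹
    rw [MulAut.conjNormal_apply] at h
    simpa [mul_assoc] using h⟩
  have hker : c.ker ≤ O := fun k hk => hcore (Subgroup.mem_centralizer_iff.2 fun o ho => by
    have h := congrArg Subtype.val (DFunLike.congr_fun (MonoidHom.mem_ker.1 hk) ⟨o, ho⟩)
    rw [MulAut.conjNormal_apply] at h
    exact (mul_inv_eq_iff_eq_mul.1 h).symm)
  have hKp : IsPGroup p K :=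
    (NormalLift.fixMod_isPGroup hOp).comap_of_ker_isPGroup c (hOp.to_le hker)
  have htK : ι ⟨t, ht⟩ ∈ K := by
    refine ⟨fun y hy => Subtype.ext ?_, fun y => ?_⟩
    · obtain ⟨x, hx, he⟩ := hy
      rw [MulAut.conjNormal_apply, ← he, ← map_inv, ← map_mul, ← map_mul]
      exact congrArg ι (Subtype.ext (hfix x hx))
    · obtain ⟨x, hx⟩ := hOle y.2
      refine ⟨x⁻¹ * (⟨t, ht⟩ * x * (⟨t, ht⟩ : S)⁻¹),
        hmod x (hO'c ((hmemO x x.2).2 (show ι x ∈ O by rw [hx]; exact y.2))), ?_⟩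
      rw [Subgroup.coe_mul, Subgroup.coe_inv, MulAut.conjNormal_apply, ← hx]
      simp
  exact hO'c ((hmemO t ht).2 (Cfsg.Agent.Thompson.le_pCore hKn hKp htK))

/-- A `Qd(p)`-free saturated system is constrained. -/
theorem isConstrained_aux (hH : CoreHyp.{u} p) (hS : IsPGroup p S) : ∀ (n : ℕ)
    (F : Cfsg.FusionSystem S), numMaps F = n → F.IsSaturated p →
    F.IsSectionFree p ↥(Cfsg.qd p) → F.IsConstrained p := by
  intro n
  induction n using Nat.strong_induction_on with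
  | _ n ih =>
  intro F hn hF hfree
  by_contra hnc
  set Q := F.core with hQdef
  have hQ : F.IsNormal Q := Fusion91.isNormal_core F
  have hnle : ¬ centralizerIn S Q ≤ Q := fun h =>
    hnc (isConstrained_of_normal_self_centralizing hF hQ h)
  have hQS : Q ≠ S := fun h => hnle (h.symm ▸ centralizerIn_le S Q)
  set D := Fusion92.centralTypeSystem F Q hQ.1 (Fusion92.isNormal_normalizer hQ) with hDdef
  have hDle : D ≤ F := Fusion92.centralType_le
  have hDQ : D.IsNormal Q := Fusion92.isNormal_centralType hQ le_rfl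
  have hDin : ∀ P f, IsMap D P f → ∀ x ∈ P, x ∈ Q → ∃ t ∈ S, f x = t * x * t⁻¹ := by
    intro P f hf x hx hxQ
    obtain ⟨-, f', -, he, t, ht, htQ⟩ := Fusion92.isMap_centralType.1 hf
    exact ⟨t, ht, by rw [← he hx, htQ x hxQ]⟩
  by_cases hall : ∀ P, D.Hom P = F.Hom P
  · have hDF : D = F := fusion_ext hall
    obtain ⟨R, hR, hRQ⟩ := exists_normal_not_le hH hS hF hfree hQ hQS (hDF ▸ hDin)
    exact hRQ (Fusion91.le_core hR)
  push Not at hall
  obtain ⟨P₀, hP₀⟩ := hall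
  have hlt : numMaps D < n := hn ▸ numMaps_lt hDle hP₀
  have hDc := ih _ hlt D rfl (Fusion92.centralType_isSaturated hS hF hQ)
    (Fusion92.isSectionFree_centralType hS hF hfree hQ (Fusion92.isNormal_normalizer hQ))
  set M := D.core with hMdef
  have hM : D.IsNormal M := Fusion91.isNormal_core D
  have hQM : Q ≤ M := Fusion91.le_core hDQ
  set T := centralizerIn S Q with hTdef
  have hTn : S ≤ Subgroup.normalizer (T : Set Ω) := fun s hs => by
    haveI := finite_of_le (centralizerIn_le S Q)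
    refine Fusion92.mem_normalizer_of_conj_mem fun x hx => ?_
    exact map_mem_centralizer (isMap_conj (F := F) le_rfl hs) hQ.1
      (Fusion92.isNormal_image hQ (isMap_conj (F := F) le_rfl hs) hQ.1) hx.1 hx.2
  by_cases hU : M ⊓ T ≤ Q
  · refine hnle fun t ht => ?_
    have htM : t ∈ M := mem_core_of_stabilizes hS hDc hDQ ht.1 (fun x hx => ?_) fun x hx => hU ⟨?_, ?_⟩
    · refine hU ⟨htM, ht⟩
    · rw [← Subgroup.mem_centralizer_iff.1 ht.2 x hx]; group
    · exact M.mul_mem (M.inv_mem hx)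
        (conj_mem_of_mem_normalizer (Fusion92.isNormal_normalizer hM ht.1) hx)
    · have h1 := conj_mem_of_mem_normalizer (hTn (S.inv_mem (hM.1 hx))) ht
      simpa [mul_assoc] using T.mul_mem h1 (T.inv_mem ht)
  set U := M ⊓ T with hUdef
  set C := centralizerSystem F Q hQ.1 with hCdef
  have hC : F.IsCentralizerSystem Q C := isCentralizerSystem_centralizerSystem Q hQ.1
  haveI : Finite T := finite_of_le (centralizerIn_le S Q)
  have hCU : C.IsNormal U := by
    refine Fusion.isNormal_iff.2 ⟨inf_le_right, fun P f hf => ?_⟩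
    obtain ⟨-, hPT, hfT, f', hf', he, hfix⟩ := (IsCentralizerSystem.isMap_iff hC).1 hf
    obtain ⟨g, hg, hge, hgM⟩ := Fusion.normal_extendsStab hM
      (Fusion92.isMap_centralType_of_fix (hQS := hQ.1) (hQ := Fusion92.isNormal_normalizer hQ)
        hf' le_sup_right hfix)
    have hgF : IsMap F (P ⊔ Q ⊔ M) g := hg.of_le hDle
    have hgQ : ∀ x ∈ Q, g x = x := fun x hx => by rw [hge (Subgroup.mem_sup_right hx), hfix x hx]
    have hgQi : g '' (Q : Set Ω) = (Q : Set Ω) := (Set.image_congr hgQ).trans (Set.image_id' _)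
    have hQle : Q ≤ P ⊔ Q ⊔ M := le_sup_right.trans le_sup_left
    have hgU : ∀ x ∈ U, g x ∈ U := fun x hx =>
      ⟨(hgM ▸ Set.mem_image_of_mem g hx.1 : g x ∈ (M : Set Ω)),
        map_mem_centralizer hgF hQle hgQi (Subgroup.mem_sup_right hx.1) hx.2.2⟩
    have hPU : P ⊔ U ≤ P ⊔ Q ⊔ M := sup_le (le_sup_left.trans le_sup_left)
      (inf_le_left.trans le_sup_right)
    haveI := finite_of_le ((inf_le_left : U ≤ M).trans hM.1)
    refine ⟨g, (IsCentralizerSystem.isMap_iff hC).2 ⟨hgF.mono hPU, sup_le hPT inf_le_right, ?_, g,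
      hgF.mono (sup_le hPU hQle), fun _ _ => rfl, hgQ⟩, fun x hx => ?_, ?_⟩
    · exact isMap_mem_sup (hgF.mono hPU) le_sup_left le_sup_right
        (fun x hx => by rw [hge (Subgroup.mem_sup_left hx), he hx]; exact hfT x hx)
        fun x hx => (hgU x hx).2
    · rw [hge (Subgroup.mem_sup_left hx), he hx]
    · exact Set.Subset.antisymm (fun _ ⟨x, hx, he'⟩ => he' ▸ hgU x hx)
        (surjOn_of_card_le ((inf_le_left : U ≤ M).trans hM.1)
          (hgF.injOn.mono fun x hx => Subgroup.mem_sup_right hx.1) hgU le_rfl)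
  exact hU ((Fusion91.le_core hCU).trans (Fusion91.le_core (core_normal_of_invariant hS hF
    (centralizerSystem_isNormalIn hS hF hQ).1.2.2 (Fusion91.isNormal_core C))))

theorem isConstrained (hH : CoreHyp.{u} p) (hS : IsPGroup p S) (hF : F.IsSaturated p)
    (hfree : F.IsSectionFree p ↥(Cfsg.qd p)) : F.IsConstrained p :=
  isConstrained_aux hH hS _ F rfl hF hfree

theorem isRealizable (hH : CoreHyp.{u} p) (hS : IsPGroup p S) (hF : F.IsSaturated p)
    (hfree : F.IsSectionFree p ↥(Cfsg.qd p)) : F.IsRealizable p := by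
  obtain ⟨G, hG, ι, hfin, hreal, hT, -⟩ := exists_model hS (isConstrained hH hS hF hfree)
  exact ⟨G, hG, hfin, ι, hreal, hT⟩

theorem isSolvableSystem (hH : CoreHyp.{u} p) (hS : IsPGroup p S) (hF : F.IsSaturated p)
    (hfree : F.IsSectionFree p ↥(Cfsg.qd p)) : F.IsSolvableSystem := by
  intro R hR hRne _ E hE
  set θ := QuotientGroup.mk' (R.subgroupOf S) with hθ
  have hEsat : E.IsSaturated p :=
    Fusion91.isSaturated_image hS hF (S5134.result p hS F hF R hR θ E hE)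
  haveI : Finite (S ⧸ R.subgroupOf S) := Finite.of_surjective θ (QuotientGroup.mk'_surjective _)
  have hN : normalizerIn S R = S := inf_eq_left.2 (Fusion.stronglyClosed_le_normalizer hR)
  have hRn : F.IsFullyNormalized R :=
    ⟨hR.1, fun R' _ => by rw [hN]; exact Subgroup.card_le_of_le (normalizerIn_le S R')⟩
  set N := normalizerSystem F R hR.1 with hNdef
  have hNiff : F.IsNormalizerSystem R N := isNormalizerSystem_normalizerSystem R hR.1
  haveI : Finite (normalizerIn S R) := finite_of_le (normalizerIn_le S R)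
  have hRN : R ≤ normalizerIn S R := hN.ge.trans' hR.1
  have hNn : N.IsNormal R := by
    refine Fusion.isNormal_iff.2 ⟨hRN, fun P f hf => ?_⟩
    obtain ⟨hfF, hP, hfN, f', hf', he, him⟩ := (IsNormalizerSystem.isMap_iff hNiff).1 hf
    refine ⟨f', (IsNormalizerSystem.isMap_iff hNiff).2 ⟨hf', sup_le hP hRN, fun x hx => ?_,
      f', hf'.mono (sup_le le_rfl le_sup_right), fun _ _ => rfl, him⟩, he, him⟩
    exact hN.ge (hf'.apply_mem hx)
  let θ' : ↥(normalizerIn S R) →* S ⧸ R.subgroupOf S :=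
    θ.comp (Subgroup.inclusion (normalizerIn_le S R))
  have hpre : ∀ P', preimageAlong θ' P' = preimageAlong θ P' := fun P' => by
    ext x
    rw [Fusion91.mem_preimageAlong, Fusion91.mem_preimageAlong]
    exact ⟨fun ⟨h, h'⟩ => ⟨h.1, h'⟩, fun ⟨h, h'⟩ => ⟨hN.ge h, h'⟩⟩
  have hE' : N.IsFactorSystem R θ' E := by
    refine ⟨hRN, fun s => hE.2.1 _, ?_, fun P' φ' => ?_⟩
    · rw [← hE.2.2.1]
      refine le_antisymm ?_ ?_
      · rintro _ ⟨s, rfl⟩; exact ⟨_, rfl⟩
      · rintro _ ⟨s, rfl⟩; exact ⟨⟨s, hN.ge s.2⟩, rfl⟩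
    rw [hE.2.2.2]
    refine and_congr_right fun _ => ?_
    rw [hpre P']
    constructor
    · rintro ⟨φ, hφ, hP, hv, hi, he⟩
      refine ⟨φ, ?_, fun x hx => hN.ge (hP hx), fun x => hN.ge (hv x), hi, he⟩
      rw [hNiff, mem_normalizerHom (f := extFun φ) fun x => (extFun_coe φ x).symm]
      refine ⟨isMap_extFun hφ, fun x hx => hN.ge (hP hx),
        fun x hx => hN.ge ((isMap_extFun hφ).apply_mem hx), ?_⟩
      have hRP : R ≤ preimageAlong θ P' := fun x hx => Fusion91.mem_preimageAlong.2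
        ⟨hR.1 hx, by rw [(hE.2.1 ⟨x, hR.1 hx⟩).2 hx]; exact P'.one_mem⟩
      haveI := finite_of_le hR.1
      have hm : ∀ x ∈ R, extFun φ x ∈ R := fun x hx =>
        (stronglyClosed_iff.1 hR).2 _ _ (isMap_extFun hφ) x (hRP hx) hx
      exact ⟨extFun φ, (isMap_extFun hφ).mono (sup_le le_rfl hRP), fun _ _ => rfl,
        Set.Subset.antisymm (fun _ ⟨x, hx, he⟩ => he ▸ hm x hx)
          (surjOn_of_card_le hR.1 ((isMap_extFun hφ).injOn.mono hRP) hm le_rfl)⟩
    · rintro ⟨φ, hφ, hP, hv, hi, he⟩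
      refine ⟨φ, ?_, fun x hx => (hP hx).1, fun x => (hv x).1, hi, he⟩
      rw [hNiff] at hφ
      exact hφ.1
  have hfreeE := S5241.result p (hS.to_le (normalizerIn_le S R)) N
    (normalizerSystem_isSaturated hS hF hRn) R hNn
    (Fusion92.isSectionFree_normalizer hS hF hfree hRn) θ' E hE'
  refine hH _ _ ((hS.of_surjective θ (QuotientGroup.mk'_surjective _)).to_subgroup _)
    (fun h => hRne (le_antisymm hR.1 fun x hx => ?_)) E hEsat hfreeE
  have h1 : θ ⟨x, hx⟩ ∈ (⊤ : Subgroup (S ⧸ R.subgroupOf S)) := Subgroup.mem_top _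
  rw [h, Subgroup.mem_bot] at h1
  exact (hE.2.1 _).1 h1

end Cfsg.Agent.QdSolv76
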